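import Cfsg.Agent.H129.CycCard
import Cfsg.Agent.H129.CycRow
import Cfsg.Agent.H150.FarE7
import Cfsg.Agent.H376.Cyc.Def

/-!
# `LF` for `E₇(q)` (helper407, task 4355 of S3441)

The tori of order `(q⁷ - 1)/(2, q - 1)` and `(q⁷ + 1)/(2, q - 1)` have coprime orders.

* `lf_of_tori` : two cyclic tori of coprime orders;
* `lf_e7`.
-/

set_option autoImplicit false

namespace Cfsg.Agent.H407.Cyc

open Cfsg Cfsg.Lie Subgroup
open Cfsg.Agent.H376.Cyc Cfsg.Agent.H129.CycT Cfsg.Agent.H129.CycCard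

universe v

/-- a cyclic subgroup containing the centralisers of its elements of order `r` -/
structure Tor (G : Type*) [Group G] (N r : ℕ) : Prop where
  prime : r.Prime
  dvd : r ∣ N
  cyc : ∃ T : Subgroup G, IsCyclic ↥T ∧ Nat.card ↥T = N ∧ ∀ y ∈ T, orderOf y = r → Subgroup.centralizer {y} ≤ T

theorem Tor.dvd_card {G : Type*} [Group G] {N r : ℕ} (h : Tor G N r) : r ∣ Nat.card G := by
  obtain ⟨T, -, h1, -⟩ := h.cyc
  exact h.dvd.trans (h1 ▸ Subgroup.card_subgroup_dvd_card T)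

/-- an element of order `r s` gives `s ∣ N` -/
theorem Tor.dvd_of_order {G : Type*} [Group G] [Finite G] {N r s : ℕ} (h : Tor G N r)
    (hx : ∃ x : G, orderOf x = r * s) : s ∣ N := by
  obtain ⟨T, h1, h2, h3⟩ := h.cyc
  have hr := h.prime
  obtain ⟨x, hx⟩ := hx
  have hs0 : s ≠ 0 := by
    rintro rfl
    rw [mul_zero] at hx
    exact (orderOf_pos x).ne' hx
  have hy : orderOf (x ^ s) = r := by
    rw [orderOf_pow' x hs0, hx, Nat.gcd_eq_right (Dvd.intro_left r rfl), Nat.mul_div_cancel _ (Nat.pos_of_ne_zero hs0)]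
  obtain ⟨g, -, hg⟩ := centralizer_conj h1 hr (h2 ▸ h.dvd) h3 hy
  have h4 := (hg x).1 (by rw [Subgroup.mem_centralizer_singleton_iff]; exact (Commute.self_pow x s).eq)
  have h5 := orderOf_dvd_natCard (⟨_, h4⟩ : ↥T)
  have h6 : orderOf (g * x * g⁻¹) = r * s := by
    rw [← hx]
    exact orderOf_injective (MulAut.conj g).toMonoidHom (MulAut.conj g).injective x
  rw [Subgroup.orderOf_mk, h6, h2] at h5
  exact (dvd_mul_left s r).trans h5

theorem lf_aux {G : Type*} [Group G] [Finite G] {N₁ N₂ r₁ r₂ : ℕ} (h1 : Tor G N₁ r₁) (h2 : Tor G N₂ r₂)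
    (hr1 : 5 ≤ r₁) (hco : Nat.Coprime N₁ N₂) (hodd : ¬ 2 ∣ N₁) : LF G := by
  have key : ∀ s : ℕ, s.Prime → s ∣ N₁ → s ∣ N₂ → False := fun s hs ha hb =>
    Nat.Prime.not_coprime_iff_dvd.2 ⟨s, hs, ha, hb⟩ hco
  refine LF.of_two h1.prime hr1 h1.dvd_card h2.prime h2.dvd_card ?_ ?_ ?_ ?_
  · rintro rfl
    exact key _ h1.prime h1.dvd h2.dvd
  · rw [mul_comm]
    exact fun hx => hodd (h1.dvd_of_order hx)
  · exact fun hx => key _ h2.prime (h1.dvd_of_order hx) h2.dvd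
  · intro r hr _ _ _ hx hy
    rw [mul_comm] at hx hy
    exact key r hr (h1.dvd_of_order hx) (h2.dvd_of_order hy)

/-- two cyclic tori of coprime orders -/
theorem lf_of_tori {G : Type*} [Group G] [Finite G] {N₁ N₂ r₁ r₂ : ℕ} (h1 : Tor G N₁ r₁) (h2 : Tor G N₂ r₂)
    (hr1 : 5 ≤ r₁) (hr2 : 5 ≤ r₂) (hco : Nat.Coprime N₁ N₂) : LF G := by
  by_cases h : 2 ∣ N₁
  · exact lf_aux h2 h1 hr2 hco.symm fun h3 => Nat.Prime.not_coprime_iff_dvd.2 ⟨2, Nat.prime_two, h, h3⟩ hco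
  · exact lf_aux h1 h2 hr1 hco h

variable {F : Type v} [Field F] [Fintype F]

/-- **`E₇(q)`** -/
theorem lf_e7 : LF ↥(Lie.chevE7.group F) := by
  obtain ⟨q, hF⟩ : ∃ q, Fintype.card F = q := ⟨_, rfl⟩
  have hq2 : 2 ≤ q := by rw [← hF]; exact Fintype.one_lt_card
  have h1 : 1 ≤ q ^ 7 := Nat.one_le_pow _ _ (by omega)
  obtain ⟨r, hr, -, hr8, -, -, hrm, -⟩ := H150.exists_prim (q := q) (m := 7) hq2 (by norm_num) (by omega)
  obtain ⟨s, hs, -, hs8, -, -, hsm, -⟩ := H150.exists_prim (q := q) (m := 14) hq2 (by norm_num) (by omega)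
  have hr7 := H150.dvd_phi_seven hq2 hr hrm
  have hs14 := H150.dvd_phi_fourteen hq2 hs hsm
  have d7 : r ∣ q ^ 7 - 1 := (hrm 7).2 dvd_rfl
  have d14 : s ∣ q ^ 7 + 1 := H150.dvd_pow_add_one_of_primitive hs (by norm_num) hsm
  by_cases h2 : 2 ∣ q - 1
  · obtain ⟨T, hT1, hT2, hT3⟩ := H150.torus_E7_sub hF h2
    obtain ⟨U, hU1, hU2, hU3⟩ := H150.torus_E7_add hF h2
    have hTU : Nat.card ↥U = Nat.card ↥T + 1 := by omega
    have hrT : r ∣ Nat.card ↥T := by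
      rw [← hT2] at d7
      exact (hr.dvd_mul.1 d7).resolve_left fun h6 => by
        have := Nat.le_of_dvd (by norm_num) h6
        omega
    have hsU : s ∣ Nat.card ↥U := by
      rw [← hU2] at d14
      exact (hs.dvd_mul.1 d14).resolve_left fun h6 => by
        have := Nat.le_of_dvd (by norm_num) h6
        omega
    refine lf_of_tori (N₁ := Nat.card ↥T) (N₂ := Nat.card ↥U) ⟨hr, hrT, T, hT1, rfl, hT3 r hr (by omega) hr7⟩
      ⟨hs, hsU, U, hU1, rfl, hU3 s hs (by omega) hs14⟩ (by omega) (by omega) ?_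
    rw [hTU]
    simp
  · obtain ⟨T, hT1, hT2, hT3⟩ := H150.torus_E7_even hF h2
    obtain ⟨m, hm⟩ : ∃ m : ℕ, (m : ℤ) = (q : ℤ) ^ 7 + 1 := ⟨q ^ 7 + 1, by push_cast; ring⟩
    obtain ⟨U, hU1, hU2, hU3, hU4, hU5⟩ := card_E7_14 hF hm hs hs14 (by omega)
    have hmq : m = q ^ 7 + 1 := by exact_mod_cast hm
    have hg : Nat.gcd 2 (q - 1) = 1 := (Nat.Prime.coprime_iff_not_dvd Nat.prime_two).2 h2
    rw [hg, one_mul] at hU3
    have hUm : Nat.card ↥U = q ^ 7 + 1 := by rw [Nat.dvd_antisymm hU2 hU3, hmq]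
    refine lf_of_tori (N₁ := Nat.card ↥T) (N₂ := Nat.card ↥U) ⟨hr, by rw [hT2]; exact d7, T, hT1, rfl,
      hT3 r hr (by omega) hr7⟩ ⟨hs, hU4, U, hU1, rfl, hU5⟩ (by omega) (by omega) ?_
    rw [hT2, hUm]
    refine Nat.Coprime.symm (Nat.coprime_of_dvd fun k hk h3 h4 => ?_)
    have h5 : k ∣ (q ^ 7 + 1) - (q ^ 7 - 1) := Nat.dvd_sub h3 h4
    have h6 : (q ^ 7 + 1) - (q ^ 7 - 1) = 2 := by omega
    rw [h6] at h5
    have h7 : k = 2 := (Nat.prime_dvd_prime_iff_eq hk Nat.prime_two).1 h5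
    subst h7
    have h8 : q % 2 = 0 := by omega
    have h9 : q ^ 7 % 2 = 0 := by rw [Nat.pow_mod, h8]
    omega

end Cfsg.Agent.H407.Cyc
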